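import Groth.Agent.L01.MultByUnip.ConnBase
import Groth.Agent.L01.MultByUnip.Core
import Groth.Agent.S4128
import Groth.Agent.S7951
import Groth.Agent.S7966
import Groth.Agent.L25.Char.EtaleSplit
import Groth.Agent.L25.MultType.Diag
import Mathlib.RingTheory.Unramified.Field
import Mathlib.RingTheory.Unramified.Finite
import Mathlib.RingTheory.Artinian.Module
import Mathlib.RingTheory.SimpleModule.Basic

/-!
# Extensions of connected groups of multiplicative type by étale unipotent groups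
-/

set_option autoImplicit false

universe u

open TensorProduct WithConv Groth.L08 Groth.L01.UnipSplit Groth.L01.MultByUnip

noncomputable section

namespace Groth.L01.EtaleKer

variable {k : Type u} [Field k]

/-- A map which becomes a coalgebra map after a field extension respects comultiplication. -/
theorem comul_descent {K : Type u} [Field K] [Algebra k K] {A' B' : Type u} [CommRing A'] [HopfAlgebra k A']
    [CommRing B'] [HopfAlgebra k B'] (r₀ : A' →ₐ[k] B') (rK : K ⊗[k] A' →ₐc[K] K ⊗[k] B')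
    (hr₀ : ∀ a, (1 : K) ⊗ₜ[k] r₀ a = rK ((1 : K) ⊗ₜ[k] a)) (a : A') :
    Algebra.TensorProduct.map r₀ r₀ (Coalgebra.comul (R := k) a) = Coalgebra.comul (R := k) (r₀ a) := by
  refine Algebra.TensorProduct.includeRight_injective (R := k) (B := B' ⊗[k] B') (A := K) (algebraMap k K).injective ?_
  refine (TensorProduct.AlgebraTensorModule.distribBaseChange k K B' B').injective ?_
  show TensorProduct.AlgebraTensorModule.distribBaseChange k K B' B' ((1 : K) ⊗ₜ[k] _) =
    TensorProduct.AlgebraTensorModule.distribBaseChange k K B' B' ((1 : K) ⊗ₜ[k] _)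
  rw [← Groth.Agent.S7966.comul_one_tmul, hr₀, ← CoalgHomClass.map_comp_comul_apply rK,
    Groth.Agent.S7966.comul_one_tmul]
  induction Coalgebra.comul (R := k) a with
  | zero => simp
  | add x y hx hy => simp only [map_add, TensorProduct.tmul_add, hx, hy]
  | tmul x y =>
    show ((1 : K) ⊗ₜ[k] r₀ x) ⊗ₜ[K] ((1 : K) ⊗ₜ[k] r₀ y) = rK ((1 : K) ⊗ₜ[k] x) ⊗ₜ[K] rK ((1 : K) ⊗ₜ[k] y)
    rw [hr₀, hr₀]

/-- Descent of elements along a field extension. -/
theorem mem_of_agree {K : Type u} [Field K] [Algebra k K] {B' : Type u} [CommRing B'] [Algebra k B']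
    (z : K ⊗[k] B')
    (hz : Algebra.TensorProduct.map (Algebra.TensorProduct.includeLeft : K →ₐ[k] K ⊗[k] K) (AlgHom.id k B') z =
      Algebra.TensorProduct.map (Algebra.TensorProduct.includeRight : K →ₐ[k] K ⊗[k] K) (AlgHom.id k B') z) :
    z ∈ (Algebra.TensorProduct.includeRight : B' →ₐ[k] K ⊗[k] B').range := by
  let bB := Module.Basis.ofVectorSpace k B'
  let bK := Algebra.TensorProduct.basis K bB
  let bR := Algebra.TensorProduct.basis (K ⊗[k] K) bB
  have hrepr : ∀ (j : K →ₐ[k] K ⊗[k] K) (w : K ⊗[k] B') (l),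
      bR.repr (Algebra.TensorProduct.map j (AlgHom.id k B') w) l = j (bK.repr w l) := by
    intro j w l
    induction w with
    | zero => simp
    | add x y hx hy => simp only [map_add, Finsupp.add_apply, hx, hy]
    | tmul c x => simp [bR, bK, Algebra.TensorProduct.basis_repr_tmul, Algebra.smul_def]
  obtain ⟨θ, hθ⟩ : ∃ θ : K →ₗ[k] k, θ 1 = 1 := by
    obtain ⟨θ, hθ⟩ := not_forall.1 fun h => one_ne_zero ((Module.forall_dual_apply_eq_zero_iff k (1 : K)).1 h)
    exact ⟨(θ 1)⁻¹ • θ, inv_mul_cancel₀ hθ⟩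
  refine ⟨(bK.repr z).sum fun l c => θ c • bB l, ?_⟩
  show (1 : K) ⊗ₜ[k] _ = z
  conv_rhs => rw [← bK.linearCombination_repr z, Finsupp.linearCombination_apply]
  rw [Finsupp.sum, Finsupp.sum, TensorProduct.tmul_sum]
  refine Finset.sum_congr rfl fun l _ => ?_
  have h1 : (bK.repr z l) ⊗ₜ[k] (1 : K) = (1 : K) ⊗ₜ[k] (bK.repr z l) := by
    have h := congrArg (fun w => bR.repr w l) hz
    simpa only [hrepr, Algebra.TensorProduct.includeLeft_apply, Algebra.TensorProduct.includeRight_apply] using h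
  have h2 := congrArg (fun w => TensorProduct.rid k K (θ.lTensor K w)) h1
  simp only [LinearMap.lTensor_tmul, TensorProduct.rid_tmul, hθ, one_smul] at h2
  conv_rhs => rw [h2]
  rw [TensorProduct.tmul_smul, Algebra.TensorProduct.basis_apply, smul_assoc, one_smul]

/-- The counit component of a finite reduced algebra. -/
theorem exists_idem {U : Type u} [CommRing U] [Algebra k U] [Algebra.Etale k U] (ε : U →ₐ[k] k) :
    ∃ e : U, IsIdempotentElem e ∧ ε e = 1 ∧ ∀ x, x * e = ε x • e := by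
  haveI : Module.Finite k U := Algebra.FormallyUnramified.finite_of_free k U
  haveI : IsReduced U := Algebra.FormallyUnramified.isReduced_of_field k U
  haveI : IsArtinianRing U := IsArtinianRing.of_finite k U
  haveI : IsSemisimpleRing U := IsArtinianRing.isSemisimpleRing_of_isReduced U
  obtain ⟨f, hf, hI⟩ := IsSemisimpleRing.ideal_eq_span_idempotent (RingHom.ker ε)
  have hεf : ε f = 0 := RingHom.mem_ker.1 (hI.ge (Ideal.mem_span_singleton_self f))
  refine ⟨1 - f, hf.one_sub, by rw [map_sub, map_one, hεf, sub_zero], fun x => ?_⟩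
  have hx : x - algebraMap k U (ε x) ∈ RingHom.ker ε := by
    rw [RingHom.mem_ker, map_sub, AlgHom.commutes]; exact sub_self _
  rw [hI, Ideal.mem_span_singleton'] at hx
  obtain ⟨c, hc⟩ := hx
  rw [Algebra.smul_def, ← sub_eq_zero, ← sub_mul, ← hc, mul_assoc, mul_sub, mul_one, hf.eq, sub_self, mul_zero]

variable {B : Type u} [CommRing B] [Algebra k B]

/-- Idempotents over an integral base of a connected algebra with a rational point. -/
theorem idempotent_eq_one (χ : B →ₐ[k] k) (hconn : ∀ e : B, IsIdempotentElem e → e = 0 ∨ e = 1)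
    {R : Type u} [CommRing R] [Algebra k R] [Algebra.IsIntegral k R] {z : R ⊗[k] B} (hz : IsIdempotentElem z)
    (h1 : (Algebra.TensorProduct.lift (AlgHom.id k R) ((Algebra.ofId k R).comp χ) fun _ _ => Commute.all _ _) z = 1) :
    z = 1 := by
  classical
  suffices hn : IsNilpotent (1 - z) by
    exact (sub_eq_zero.1 (hz.one_sub.eq_zero_of_isNilpotent hn)).symm
  refine mem_nilradical.1 ?_
  rw [nilradical_eq_sInf, Ideal.mem_sInf]
  intro Q hQ
  have hQ' : Q.IsPrime := hQ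
  let p : Ideal R := Q.comap (Algebra.TensorProduct.includeLeftRingHom : R →+* R ⊗[k] B)
  haveI : p.IsPrime := Ideal.IsPrime.comap _
  haveI : Algebra.IsIntegral k (R ⧸ p) :=
    Algebra.IsIntegral.of_surjective (Ideal.Quotient.mkₐ k p) Ideal.Quotient.mk_surjective
  haveI : p.IsMaximal := Ideal.Quotient.maximal_of_isField p
    (isField_of_isIntegral_of_isField' (Field.toIsField k))
  letI := Ideal.Quotient.field p
  haveI : Algebra.IsAlgebraic k (R ⧸ p) := Algebra.IsIntegral.isAlgebraic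
  let L := AlgebraicClosure (R ⧸ p)
  haveI : Algebra.IsAlgebraic k L := Algebra.IsAlgebraic.trans k (R ⧸ p) L
  haveI : IsAlgClosure k L := ⟨inferInstance, inferInstance⟩
  haveI : Normal k L := IsAlgClosure.normal k L
  let i : (R ⧸ p) →ₐ[k] L := IsScalarTower.toAlgHom k (R ⧸ p) L
  let h : R ⊗[k] B →ₐ[k] (R ⧸ p) ⊗[k] B := Algebra.TensorProduct.map (Ideal.Quotient.mkₐ k p) (AlgHom.id k B)
  let iB : (R ⧸ p) ⊗[k] B →ₐ[k] L ⊗[k] B := Algebra.TensorProduct.map i (AlgHom.id k B)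
  have hiB : Function.Injective iB :=
    Module.Flat.rTensor_preserves_injective_linearMap (M := B) i.toLinearMap i.toRingHom.injective
  let χR : R ⊗[k] B →ₐ[k] R := Algebra.TensorProduct.lift (AlgHom.id k R) ((Algebra.ofId k R).comp χ) fun _ _ => Commute.all _ _
  let χL : L ⊗[k] B →ₐ[k] L := Algebra.TensorProduct.lift (AlgHom.id k L) ((Algebra.ofId k L).comp χ) fun _ _ => Commute.all _ _
  have hcomm : ∀ w, χL (iB (h w)) = i (Ideal.Quotient.mkₐ k p (χR w)) := by
    intro w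
    induction w with
    | zero => simp
    | add x y hx hy => simp only [map_add, hx, hy]
    | tmul r b => simp [χL, iB, h, χR, Algebra.smul_def, ← IsScalarTower.algebraMap_apply k (R ⧸ p) L, i]
  have h2 : h (1 - z) = 0 := by
    apply hiB
    rw [map_zero, map_sub, map_sub, map_one, map_one, sub_eq_zero]
    rcases eq_zero_or_one_of_idempotent χ hconn ((hz.map h).map iB) with h0 | h0
    · have := hcomm z
      rw [h0, map_zero, show χR z = 1 from h1, map_one, map_one] at this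
      exact absurd this zero_ne_one
    · exact h0.symm
  let g : (R ⧸ p) ⊗[k] B →ₐ[k] (R ⊗[k] B) ⧸ Q := Algebra.TensorProduct.lift
    (Ideal.Quotient.liftₐ p ((Ideal.Quotient.mkₐ k Q).comp Algebra.TensorProduct.includeLeft)
      fun a ha => Ideal.Quotient.eq_zero_iff_mem.2 ha)
    ((Ideal.Quotient.mkₐ k Q).comp Algebra.TensorProduct.includeRight) fun _ _ => Commute.all _ _
  have hgh : ∀ w, g (h w) = Ideal.Quotient.mk Q w := by
    intro w
    induction w with
    | zero => simp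
    | add x y hx hy => simp only [map_add, hx, hy]
    | tmul r b =>
      show Ideal.Quotient.mk Q (r ⊗ₜ[k] (1 : B)) * Ideal.Quotient.mk Q ((1 : R) ⊗ₜ[k] b) = _
      rw [← map_mul, Algebra.TensorProduct.tmul_mul_tmul, mul_one, one_mul]
  rw [← Ideal.Quotient.eq_zero_iff_mem, ← hgh, h2, map_zero]

end Groth.L01.EtaleKer

namespace Groth.L01.EtaleKer

variable {k : Type u} [Field k] {A B : Type u} [CommRing A] [HopfAlgebra k A] [CommRing B] [HopfAlgebra k B]
  (ψ : B →ₐc[k] A) {J : Ideal A} [J.IsHopfIdeal k]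
  (hJ : J = Ideal.map (ψ : B →+* A) (RingHom.ker (Bialgebra.counitAlgHom k B)))
  [Algebra.Etale k (A ⧸ J)] (hH : ∀ e : B, IsIdempotentElem e → e = 0 ∨ e = 1)

include hJ hH in
/-- Sections with values in an integral base change are unique. -/
theorem section_unique {R : Type u} [CommRing R] [Algebra k R] [Algebra.IsIntegral k R]
    (r₁ r₂ : A →ₐ[k] R ⊗[k] B) (h : ∀ b, r₁ (ψ b) = r₂ (ψ b))
    (h₁ : ∀ a, (Algebra.TensorProduct.lift (AlgHom.id k R) ((Algebra.ofId k R).comp (Bialgebra.counitAlgHom k B))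
      fun _ _ => Commute.all _ _) (r₁ a) = algebraMap k R (Coalgebra.counit (R := k) a))
    (h₂ : ∀ a, (Algebra.TensorProduct.lift (AlgHom.id k R) ((Algebra.ofId k R).comp (Bialgebra.counitAlgHom k B))
      fun _ _ => Commute.all _ _) (r₂ a) = algebraMap k R (Coalgebra.counit (R := k) a)) :
    r₁ = r₂ := by
  let χ : R ⊗[k] B →ₐ[k] R :=
    Algebra.TensorProduct.lift (AlgHom.id k R) ((Algebra.ofId k R).comp (Bialgebra.counitAlgHom k B))
      fun _ _ => Commute.all _ _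
  let n : WithConv (A →ₐ[k] R ⊗[k] B) := pinv (toConv r₁) * toConv r₂
  have hn : IsKer ψ n := isKer_of_agree (toConv r₁) (toConv r₂) h
  let g := Ideal.Quotient.liftₐ J n.ofConv (IsKer.kills hJ hn)
  have hε : ∀ r : A →ₐ[k] R ⊗[k] B, (∀ a, χ (r a) = algebraMap k R (Coalgebra.counit (R := k) a)) →
      toConv (χ.comp r) = 1 := fun r hr => WithConv.ofConv_injective (AlgHom.ext fun a => by
    rw [AlgHom.convOne_apply]; exact hr a)
  have hn1 : toConv (χ.comp n.ofConv) = 1 := by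
    rw [UnipSplit.post_mul, show toConv (χ.comp (pinv (toConv r₁)).ofConv) = pinv (toConv (χ.comp r₁)) from rfl,
      hε r₁ h₁]
    show pinv 1 * toConv (χ.comp r₂) = 1
    rw [hε r₂ h₂, pinv_one, one_mul]
  have hχn : ∀ a, χ (n.ofConv a) = algebraMap k R (Coalgebra.counit (R := k) a) := fun a => by
    have h1 := congrArg (fun t : WithConv (A →ₐ[k] R) => t.ofConv a) hn1
    simpa [AlgHom.convOne_apply] using h1
  obtain ⟨e, he, hεe, hxe⟩ := exists_idem (Bialgebra.counitAlgHom k (A ⧸ J))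
  have hge : g e = 1 := by
    refine idempotent_eq_one (Bialgebra.counitAlgHom k B) hH (he.map g) ?_
    obtain ⟨a, rfl⟩ := Ideal.Quotient.mk_surjective e
    show χ (n.ofConv a) = 1
    rw [hχn, show Coalgebra.counit (R := k) a = 1 from hεe, map_one]
  have hn' : n = 1 := by
    refine WithConv.ofConv_injective (AlgHom.ext fun a => ?_)
    have h3 := congrArg g (hxe (Ideal.Quotient.mk J a))
    rw [map_mul, map_smul, hge, mul_one] at h3
    rw [AlgHom.convOne_apply, Algebra.algebraMap_eq_smul_one]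
    exact h3
  have h' : toConv r₁ * (pinv (toConv r₁) * toConv r₂) = toConv r₁ * 1 := congrArg (toConv r₁ * ·) hn'
  rw [← mul_assoc, mul_pinv, one_mul, mul_one] at h'
  exact (WithConv.toConv_injective h').symm

local notation "𝕂" => AlgebraicClosure k

variable [Algebra.FiniteType k A] [Algebra.FiniteType k B]

include hJ hH in
theorem existsUnique_retraction (hB : SGA3b.IsMultTypeConst k B) (hψ : Function.Injective ψ)
    (hU : HopfRep.IsUnipotent k (A ⧸ J)) : ∃! r : A →ₐc[k] B, r.comp ψ = BialgHom.id k B := by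
  classical
  haveI : Algebra.FiniteType k (A ⧸ J) :=
    Algebra.FiniteType.of_surjective (Ideal.Quotient.mkₐ k J) Ideal.Quotient.mk_surjective
  let i : B →ₐ[k] 𝕂 ⊗[k] B := Algebra.TensorProduct.includeRight
  have hi : Function.Injective i :=
    Algebra.TensorProduct.includeRight_injective (A := 𝕂) (algebraMap k 𝕂).injective
  let χ : 𝕂 ⊗[k] B →ₐ[k] 𝕂 := Algebra.TensorProduct.lift (AlgHom.id k 𝕂)
    ((Algebra.ofId k 𝕂).comp (Bialgebra.counitAlgHom k B)) fun _ _ => Commute.all _ _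
  have hχK : ∀ w, χ w = Coalgebra.counit (R := 𝕂) w := by
    intro w
    induction w with
    | zero => simp
    | add x y hx hy => simp only [map_add, hx, hy]
    | tmul c x => simp [χ, Algebra.smul_def, mul_comm]
  have hunique : ∀ r₁ r₂ : A →ₐc[k] B, r₁.comp ψ = BialgHom.id k B → r₂.comp ψ = BialgHom.id k B → r₁ = r₂ := by
    intro r₁ r₂ h₁ h₂
    have he : ∀ r : A →ₐc[k] B, ∀ a, χ (i (r a)) = algebraMap k 𝕂 (Coalgebra.counit (R := k) a) := by
      intro r a
      simp [χ, i, CoalgHomClass.counit_comp_apply]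
    have h := section_unique ψ hJ hH (i.comp (r₁ : A →ₐ[k] B)) (i.comp (r₂ : A →ₐ[k] B))
      (fun c => congrArg i (((congrArg (fun f : B →ₐc[k] B => f c) h₁)).trans (congrArg (fun f : B →ₐc[k] B => f c) h₂).symm))
      (he r₁) (he r₂)
    exact BialgHom.ext fun a => hi (congrArg (fun f : A →ₐ[k] 𝕂 ⊗[k] B => f a) h)
  -- over the algebraic closure
  obtain ⟨T, _, _, _, q, hq, -, M, hM, -, ⟨eT⟩⟩ := Groth.L25.Char.exists_etale_split_of_const hB (⊥ : Ideal k)
  haveI : Nontrivial T := ⟨0, 1, fun h => hq.ne_top ((Ideal.eq_top_iff_one _).2 (h ▸ q.zero_mem))⟩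
  haveI : Module.Finite k T := Algebra.FormallyUnramified.finite_of_free k T
  obtain ⟨P, hP⟩ := Ideal.exists_maximal T
  letI := Ideal.Quotient.field P
  haveI : Algebra.IsAlgebraic k (T ⧸ P) := Algebra.IsAlgebraic.of_finite k (T ⧸ P)
  let fT : T →ₐ[k] 𝕂 := (IsAlgClosed.lift : (T ⧸ P) →ₐ[k] 𝕂).comp (Ideal.Quotient.mkₐ k P)
  letI : Algebra T 𝕂 := fT.toRingHom.toAlgebra
  haveI : IsScalarTower k T 𝕂 := IsScalarTower.of_algebraMap_eq fun c => (fT.commutes c).symm
  have hdiag : SGA3b.IsDiag 𝕂 (𝕂 ⊗[k] B) := Groth.L25.MultType.isDiag_of_tower (R' := T) ⟨M, hM, ⟨eT⟩⟩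
  let ψK : 𝕂 ⊗[k] B →ₐc[𝕂] 𝕂 ⊗[k] A := Bialgebra.TensorProduct.map (BialgHom.id 𝕂 𝕂) ψ
  have hψK : Function.Injective ψK :=
    Module.Flat.lTensor_preserves_injective_linearMap (M := 𝕂) (ψ : B →ₗ[k] A) hψ
  let JK : Ideal (𝕂 ⊗[k] A) :=
    Ideal.map (ψK : 𝕂 ⊗[k] B →+* 𝕂 ⊗[k] A) (RingHom.ker (Bialgebra.counitAlgHom 𝕂 (𝕂 ⊗[k] B)))
  have hrep : Dyn.Represents 𝕂 (𝕂 ⊗[k] A) JK (fun R _ _ f => IsKer ψK (toConv f)) := by
    intro R _ _ f
    refine ⟨fun h => ?_, fun h => IsKer.kills rfl h⟩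
    exact (isKer_mk (ψ := ψK) JK rfl).post (Ideal.Quotient.liftₐ JK f h)
  haveI : JK.IsHopfIdeal 𝕂 := isHopfIdeal_of_represents hrep (fun R _ _ => IsKer.one)
    (fun R _ _ g h hg hh => IsKer.mul hg hh) (fun R _ _ g hg => IsKer.pinv hg)
  let pK : 𝕂 ⊗[k] A →ₐc[𝕂] 𝕂 ⊗[k] (A ⧸ J) :=
    Bialgebra.TensorProduct.map (BialgHom.id 𝕂 𝕂) (Bialgebra.Quotient.mkBialgHom (R := k) J)
  have hpK : Function.Surjective pK :=
    LinearMap.lTensor_surjective 𝕂 (g := ((Bialgebra.Quotient.mkBialgHom (R := k) J) : A →ₗ[k] A ⧸ J))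
      Ideal.Quotient.mk_surjective
  let f := Bialgebra.Quotient.mkBialgHom (R := 𝕂) JK
  let f₀ : A →ₐ[k] (𝕂 ⊗[k] A) ⧸ JK :=
    ((f : 𝕂 ⊗[k] A →ₐ[𝕂] (𝕂 ⊗[k] A) ⧸ JK).restrictScalars k).comp Algebra.TensorProduct.includeRight
  have hf₀ : ∀ a ∈ J, f₀ a = 0 := by
    intro a ha
    have hle : J ≤ RingHom.ker f₀ := by
      rw [hJ, Ideal.map_le_iff_le_comap]
      intro c hc
      have hc0 : Coalgebra.counit (R := k) c = 0 := hc
      show f ((1 : 𝕂) ⊗ₜ[k] ψ c) = 0
      refine Ideal.Quotient.eq_zero_iff_mem.2 ?_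
      exact Ideal.mem_map_of_mem (ψK : 𝕂 ⊗[k] B →+* 𝕂 ⊗[k] A)
        (show (1 : 𝕂) ⊗ₜ[k] c ∈ RingHom.ker (Bialgebra.counitAlgHom 𝕂 (𝕂 ⊗[k] B)) by simp [RingHom.mem_ker, hc0])
    exact hle ha
  let g : 𝕂 ⊗[k] (A ⧸ J) →ₐ[𝕂] (𝕂 ⊗[k] A) ⧸ JK :=
    Algebra.TensorProduct.lift (Algebra.ofId 𝕂 _) (Ideal.Quotient.liftₐ J f₀ hf₀) fun _ _ => Commute.all _ _
  have hg : ∀ x, g (pK x) = f x := by
    intro x
    induction x with
    | zero => simp
    | add x y hx hy => simp only [map_add, hx, hy]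
    | tmul c a =>
      show algebraMap 𝕂 _ c * f₀ a = f (c ⊗ₜ[k] a)
      rw [show c ⊗ₜ[k] a = c • ((1 : 𝕂) ⊗ₜ[k] a) by rw [TensorProduct.smul_tmul', smul_eq_mul, mul_one],
        map_smul]
      exact (Algebra.smul_def c (f₀ a)).symm
  obtain ⟨g', hg'⟩ := exists_bialg_factor pK hpK f g hg
  have hUK : HopfRep.IsUnipotent 𝕂 ((𝕂 ⊗[k] A) ⧸ JK) := isUnipotent_of_surjective g' (fun w => by
    obtain ⟨x, rfl⟩ := Ideal.Quotient.mk_surjective w
    exact ⟨pK x, hg' x⟩) ((Groth.Agent.S7951.result k 𝕂 (A ⧸ J)).1 hU)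
  obtain ⟨rK, hrK⟩ := Groth.Agent.S4128.result 𝕂 (𝕂 ⊗[k] A) (𝕂 ⊗[k] B) hdiag ψK hψK JK rfl hUK
  let ρ : A →ₐ[k] 𝕂 ⊗[k] B :=
    ((rK : 𝕂 ⊗[k] A →ₐ[𝕂] 𝕂 ⊗[k] B).restrictScalars k).comp Algebra.TensorProduct.includeRight
  have hρψ : ∀ b, ρ (ψ b) = (1 : 𝕂) ⊗ₜ[k] b := fun b =>
    congrArg (fun t : 𝕂 ⊗[k] B →ₐc[𝕂] 𝕂 ⊗[k] B => t ((1 : 𝕂) ⊗ₜ[k] b)) hrK
  have hρε : ∀ a, χ (ρ a) = algebraMap k 𝕂 (Coalgebra.counit (R := k) a) := fun a => by
    rw [hχK]
    show Coalgebra.counit (R := 𝕂) (rK ((1 : 𝕂) ⊗ₜ[k] a)) = _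
    rw [CoalgHomClass.counit_comp_apply]
    simp [Algebra.smul_def]
  -- descent
  let R := 𝕂 ⊗[k] 𝕂
  let j₁ : 𝕂 →ₐ[k] R := Algebra.TensorProduct.includeLeft
  let j₂ : 𝕂 →ₐ[k] R := Algebra.TensorProduct.includeRight
  haveI : Algebra.IsIntegral k R := ⟨fun w => by
    induction w using TensorProduct.induction_on with
    | zero => exact isIntegral_zero
    | add x y hx hy => exact hx.add hy
    | tmul x y =>
      rw [show x ⊗ₜ[k] y = j₁ x * j₂ y by
        show _ = (x ⊗ₜ[k] (1 : 𝕂)) * ((1 : 𝕂) ⊗ₜ[k] y)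
        rw [Algebra.TensorProduct.tmul_mul_tmul, mul_one, one_mul]]
      exact ((Algebra.IsIntegral.isIntegral x).map j₁).mul ((Algebra.IsIntegral.isIntegral y).map j₂)⟩
  let J₁ : 𝕂 ⊗[k] B →ₐ[k] R ⊗[k] B := Algebra.TensorProduct.map j₁ (AlgHom.id k B)
  let J₂ : 𝕂 ⊗[k] B →ₐ[k] R ⊗[k] B := Algebra.TensorProduct.map j₂ (AlgHom.id k B)
  let χR : R ⊗[k] B →ₐ[k] R := Algebra.TensorProduct.lift (AlgHom.id k R)
    ((Algebra.ofId k R).comp (Bialgebra.counitAlgHom k B)) fun _ _ => Commute.all _ _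
  have hχj : ∀ (j : 𝕂 →ₐ[k] R) (w : 𝕂 ⊗[k] B),
      χR (Algebra.TensorProduct.map j (AlgHom.id k B) w) = j (χ w) := by
    intro j w
    induction w with
    | zero => simp
    | add x y hx hy => simp only [map_add, hx, hy]
    | tmul c x => simp [χR, χ]
  have hagree : J₁.comp ρ = J₂.comp ρ := section_unique ψ hJ hH (J₁.comp ρ) (J₂.comp ρ)
    (fun b => by show J₁ (ρ (ψ b)) = J₂ (ρ (ψ b)); rw [hρψ]; simp [J₁, J₂, j₁, j₂, Algebra.TensorProduct.one_def])
    (fun a => by show χR (J₁ (ρ a)) = _; rw [hχj, hρε, AlgHom.commutes])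
    (fun a => by show χR (J₂ (ρ a)) = _; rw [hχj, hρε, AlgHom.commutes])
  have hdesc : ∀ a, ρ a ∈ i.range := fun a =>
    mem_of_agree (ρ a) (congrArg (fun f : A →ₐ[k] R ⊗[k] B => f a) hagree)
  let eB := AlgEquiv.ofInjective i hi
  let r₀ : A →ₐ[k] B := (eB.symm : _ →ₐ[k] B).comp (ρ.codRestrict _ hdesc)
  have hr₀ : ∀ a, (1 : 𝕂) ⊗ₜ[k] r₀ a = rK ((1 : 𝕂) ⊗ₜ[k] a) := fun a =>
    congrArg Subtype.val (eB.apply_symm_apply ⟨ρ a, hdesc a⟩)
  let r : A →ₐc[k] B := BialgHom.ofAlgHom r₀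
    (AlgHom.ext fun a => (algebraMap k 𝕂).injective (by
      show algebraMap k 𝕂 (Coalgebra.counit (R := k) (r₀ a)) = algebraMap k 𝕂 (Coalgebra.counit (R := k) a)
      rw [← hρε a, hχK]
      show _ = Coalgebra.counit (R := 𝕂) (rK ((1 : 𝕂) ⊗ₜ[k] a))
      rw [← hr₀]
      simp [Algebra.smul_def]))
    (AlgHom.ext fun a => by
      show Algebra.TensorProduct.map r₀ r₀ (Coalgebra.comul (R := k) a) = Coalgebra.comul (R := k) (r₀ a)
      exact comul_descent r₀ rK hr₀ a)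
  have hr : r.comp ψ = BialgHom.id k B := BialgHom.ext fun b => hi ((hr₀ (ψ b)).trans (hρψ b))
  exact ⟨r, hr, fun r' hr' => hunique r' r hr' hr⟩

end Groth.L01.EtaleKer
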